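import Groth.Agent.StkQAff.Spaces
import Groth.Agent.AlgStBasic.TrivialInertia
import Groth.Agent.AlgSpBasic.SepLQFScheme
import Groth.Agent.Pi1Desc.Separated
import Groth.Agent.S10322

/-!
# The diagonal of a Deligne–Mumford stack with separated quasi-compact diagonal is quasi-affine
-/

set_option autoImplicit false
set_option backward.isDefEq.respectTransparency false
set_option backward.isDefEq.respectTransparency.types false

universe u

open CategoryTheory CategoryTheory.Limits AlgebraicGeometry Opposite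
open Groth.StkBase Groth.AlgStBasic Groth.AlgSpBasic

noncomputable section

namespace Groth.StkQAff

variable {S : Scheme.{u}} {𝒳 𝒲 : AlgSt.Cat S}

theorem repWith_diag_toSelf_of_cover {Q : MorphismProperty Scheme.{u}} [EtaleLocal Q]
    (hQ : ∀ ⦃A B C : Scheme.{u}⦄ (a : A ⟶ B) (b : B ⟶ C), Q (a ≫ b) → Q a)
    (h𝒳 : FibCat.IsFibGrpd 𝒳.p) (hd : AlgSt.RepByAlgSp1 (FibCat.diag (FibCat.toSelf 𝒳)))
    (hW : AlgSt.RepByAlgSp 𝒲)
    {x : 𝒲 ⥤ᵇ 𝒳} (h₁ : AlgSt.RepByAlgSpWith (AlgSp.LocP @Flat) x)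
    (h₂ : AlgSt.RepByAlgSpWith (AlgSp.LocP @LocallyOfFinitePresentation) x)
    (h₃ : AlgSt.RepByAlgSpWith AlgSp.IsSurjectiveMor x)
    (h₄ : AlgSt.RepByAlgSpWith (AlgSp.LocP Q) x) :
    AlgSt.RepByAlgSpWith (AlgSp.LocP Q) (FibCat.diag (FibCat.toSelf 𝒳)) := by
  have hU : FibCat.IsFibGrpd 𝒲.p := isFibGrpd_of_repByAlgSp hW
  let t := FibCat.toSelf 𝒳
  let M := fpPre x x t t
  have hM₁ : AlgSt.RepByAlgSpWith (AlgSp.LocP @Flat) M :=
    repWith_fpPre hU h𝒳 hU isFibGrpd_selfOver stableBaseChange_locP stableComp_locP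
      descendsAlongAtlas_locP x x t t h₁ h₁
  have hM₂ : AlgSt.RepByAlgSpWith (AlgSp.LocP @LocallyOfFinitePresentation) M :=
    repWith_fpPre hU h𝒳 hU isFibGrpd_selfOver stableBaseChange_locP stableComp_locP
      descendsAlongAtlas_locP x x t t h₂ h₂
  have hM₃ : AlgSt.RepByAlgSpWith AlgSp.IsSurjectiveMor M :=
    repWith_fpPre hU h𝒳 hU isFibGrpd_selfOver stableBaseChange_surjective stableComp_surjective
      descendsAlongAtlas_surjective x x t t h₃ h₃
  refine repWith_of_locally stableBaseChange_locP (isLocalOnBase_fppf_locP _) hd (g := M)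
    (fun V z => exists_lift_of_fppf_surjective hM₁ hM₂ hM₃ V z) ?_
  refine (repWith_precomp_equiv (isEquivOver_diagFp' x x t) _).1 ?_
  have hS : AlgSt.RepByAlgSp (FibCat.selfOver (Over S)) := repByAlgSp_selfOver
  let T := FibCat.fpFst (BasedFunctor.comp x t) (BasedFunctor.comp x t)
  have hT : AlgSt.RepByAlgSp1 T :=
    repByAlgSp1_fpFst _ _ (repByAlgSp1_of_repByAlgSp hW hS _)
  refine repWith_of_comp_cancel (g := T) (isFibGrpd_fp hU hU h𝒳) (isFibGrpd_fp hU hU isFibGrpd_selfOver)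
    stableBaseChange_locP (cancelRight_locP hQ)
    ((repByAlgSp1_precomp_iff (isEquivOver_diagFp' x x t) _).2 (repByAlgSp1_fpFst _ _ hd)) hT ?_
  exact repWith_of_iso (Iso.refl _) (repWith_fpFst x x h₄)



theorem isQuasiAffineMor_of_separated_lqf {F G : AlgSp.Sp S} (hF : AlgSp.IsAlgSpace F)
    (hG : AlgSp.IsAlgSpace G) {f : F ⟶ G}
    (hqf : AlgSp.LocP (@LocallyQuasiFinite ⊓ @LocallyOfFiniteType) f)
    (hqc : AlgSp.IsQuasiCompactMor f) (hsep : AlgSp.IsSeparatedMor f) :
    AlgSp.IsQuasiAffineMor f := by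
  have hrep := representable_of_separated_lqf hF hG hqf hsep
  have hq := repWith_of_isQuasiCompactMor hrep hqc
  have hs := (Groth.AlgSp2.repWith_isSeparated_iff hrep).1 hsep
  have hl := repWith_of_locP hG hrep hqf
  refine isQuasiAffineMor_iff_repWith.2 ⟨hrep, fun A B g fst snd sq => ?_⟩
  have : QuasiCompact snd.left := hq.property g fst snd sq
  have : IsSeparated snd.left := hs.property g fst snd sq
  have : LocallyQuasiFinite snd.left := (hl.property g fst snd sq).1
  have : LocallyOfFiniteType snd.left := (hl.property g fst snd sq).2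
  exact Groth.Pi1Desc.isQuasiAffineHom_of_locallyQuasiFinite snd.left

theorem repWith_qa_diag_of_isDM (hX : AlgSt.IsDM Scheme.etalePrecoverage 𝒳)
    (hsep : AlgSt.RepByAlgSpWith AlgSp.IsSeparatedMor (FibCat.diag (FibCat.toSelf 𝒳)))
    (hqc : AlgSt.RepByAlgSpWith AlgSp.IsQuasiCompactMor (FibCat.diag (FibCat.toSelf 𝒳))) :
    AlgSt.RepByAlgSpWith AlgSp.IsQuasiAffineMor (FibCat.diag (FibCat.toSelf 𝒳)) := by
  obtain ⟨U, x, hx, hxs⟩ := hX.2
  have hl : AlgSt.RepByAlgSpWith (AlgSp.LocP @Etale) x :=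
    repWith_mono (fun _ _ _ _ _ hf => locP_of_isEtaleMor hf) hx
  have hu : AlgSt.RepByAlgSpWith (AlgSp.LocP
      ((@LocallyOfFiniteType : MorphismProperty Scheme.{u}) ⊓ @FormallyUnramified))
      (FibCat.diag (FibCat.toSelf 𝒳)) :=
    repWith_diag_toSelf_of_cover (fun _ _ _ a b hab => by
        obtain ⟨_, _⟩ := hab
        exact ⟨locallyOfFiniteType_of_comp a b, FormallyUnramified.of_comp a b⟩)
      hX.1.isStack.1 hX.1.diag (repByAlgSp_overCat U)
      (repWith_mono (fun _ _ _ _ _ hf => locP_mono (fun _ _ g (_ : Etale g) => (inferInstance : Flat g)) hf) hl)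
      (repWith_mono (fun _ _ _ _ _ hf => locP_mono
        (fun _ _ g (_ : Etale g) => (inferInstance : LocallyOfFinitePresentation g)) hf) hl)
      hxs (repWith_mono (fun _ _ _ _ _ hf => locP_mono etale_le_unramified hf) hl)
  intro A y
  obtain ⟨F, e, he⟩ := repWith_repByAlgSp1 hu A y
  have h₁ := prop_of_repWith_fp stableBaseChange_locP hu y F e he
  refine ⟨F, e, he, ?_⟩
  refine isQuasiAffineMor_of_separated_lqf F.property (AlgSp.IsAlgSpace.yon_obj A)
    ((Groth.Agent.S10322.result (X := F) (Y := ⟨_, AlgSp.IsAlgSpace.yon_obj A⟩)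
      (ObjectProperty.homMk _)).2 h₁) ?_ ?_
  · exact prop_of_repWith_fp stableBaseChange_qc hqc y F e he
  · exact prop_of_repWith_fp stableBaseChange_sep hsep y F e he

end Groth.StkQAff
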