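import Groth.Agent.StkQAff.Spaces
import Groth.Agent.QuotEt.AffineDiag

/-!
# Quasi-affine diagonal and quasi-affine charts
-/

set_option autoImplicit false
set_option backward.isDefEq.respectTransparency false
set_option backward.isDefEq.respectTransparency.types false

set_option maxHeartbeats 2000000

universe u

open CategoryTheory CategoryTheory.Limits AlgebraicGeometry Opposite
open Groth.StkBase Groth.AlgStBasic Groth.SpectralTopology

noncomputable section

namespace Groth.StkQAff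

variable {S : Scheme.{u}} {𝒳 𝒴 : AlgSt.Cat S}

instance : quasiAffineHom.{u}.ContainsIdentities := ⟨fun A => ⟨inferInstance, fun V hV => by
  have : IsAffine V.toScheme := hV
  exact (inferInstance : V.toScheme.IsQuasiAffine)⟩⟩

theorem selfOver_vert_ext {a b : (FibCat.selfOver (Over S)).obj} {f g : a ⟶ b}
    (hf : IsVert (FibCat.selfOver (Over S)).p f) (hg : IsVert (FibCat.selfOver (Over S)).p g) :
    f = g :=
  hf.map_eq.trans hg.map_eq.symm

/-- A representable functor is quasi-affine if it is so on a covering sieve of every test scheme. -/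
theorem repWith_qa_of_locally {f : 𝒳 ⥤ᵇ 𝒴} (hf : AlgSt.RepByAlgSp1 f)
    (hg : ∀ (U : Over S) (y : FibCat.overCat U ⥤ᵇ 𝒴), ∃ R ∈ AlgSp.J S U,
      ∀ ⦃V : Over S⦄ (h : V ⟶ U), R.arrows h →
        RepFst (AlgSp.RepWith quasiAffineHom)
          (FibCat.fpFst (BasedFunctor.comp (AlgSt.overMap h) y) f)) :
    AlgSt.RepByAlgSpWith (AlgSp.RepWith quasiAffineHom) f := by
  intro U y
  obtain ⟨F, e, he⟩ := hf U y
  refine ⟨F, e, he, ?_⟩
  obtain ⟨R, hR, hR'⟩ := hg U y
  refine repWith_of_sieve _ hR fun V i hi => ?_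
  let π := AlgSt.spMapOfOver (BasedFunctor.comp e (FibCat.fpFst y f))
  let M := AlgSt.overMap i
  let T := AlgSt.toOverCat U
  let ξ := overMapOf ((AlgSp.pyon S).map i)
  have hy := hR' i hi
  have hT := isEquivOver_toOverCat U
  have := full_of_isEquivOver hT
  have := faithful_of_isEquivOver hT
  obtain ⟨β⟩ := nonempty_iso_pshMapOf
    (BasedFunctor.comp (BasedFunctor.comp e (FibCat.fpFst y f)) (AlgSt.ofOverCat U))
  have γ : BasedFunctor.comp (Stk.ofPshMap π.hom) T
      ≅ BasedFunctor.comp e (FibCat.fpFst y f) := by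
    have γ' : Stk.ofPshMap π.hom
        ≅ BasedFunctor.comp (BasedFunctor.comp e (FibCat.fpFst y f)) (AlgSt.ofOverCat U) :=
      (eqToIso (congrArg Stk.ofPshMap (spMapOfOver_hom_eq _))).trans β.symm
    exact whiskerRightIso γ' T
  obtain ⟨δ⟩ := nonempty_overMapOf_iso i
  have hE : FibCat.IsEquivOver (BasedFunctor.comp (fpPost ξ (Stk.ofPshMap π.hom) T)
      (BasedFunctor.comp (fpCongr δ γ)
        (BasedFunctor.comp (fpPre (BasedFunctor.id _) e M (FibCat.fpFst y f)) (fpPaste M y f)))) :=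
    isEquivOver_comp (isEquivOver_fpPost ξ _ T) (isEquivOver_comp (isEquivOver_fpCongr δ γ)
      (isEquivOver_comp (isEquivOver_fpPre (isEquivOver_id _) he _ _) (isEquivOver_fpPaste M y f)))
  obtain ⟨E', hE', -, ⟨b⟩⟩ := isEquivOver_symm hE
  have key : RepFst (AlgSp.RepWith quasiAffineHom) (FibCat.fpFst ξ (Stk.ofPshMap π.hom)) :=
    RepFst.of_equiv hE' (whiskerRightIso b (FibCat.fpFst _ _)) hy
  exact prop_snd_of_repFst
    ((IsPullback.of_hasPullback π ((AlgSp.yon S).map i)).map (sheafToPresheaf (AlgSp.J S) (Type (u + 1))))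
    (pullback π ((AlgSp.yon S).map i)).property key

theorem repWith_fpFst_prod (A V : Over S) (h : quasiAffineHom V.hom) :
    AlgSt.RepByAlgSpWith (AlgSp.RepWith quasiAffineHom)
      (FibCat.fpFst (FibCat.toSelf (FibCat.overCat A)) (FibCat.toSelf (FibCat.overCat V))) := by
  let T : AlgSp.PSp S := (AlgSp.pyon S).obj (Over.mk (𝟙 S))
  have hT : ∀ W, Nonempty (Unique (T.obj W)) := fun W =>
    ⟨{ default := ⟨Over.mkIdTerminal.from W.unop⟩,
       uniq := fun t => ULift.ext _ _ (Over.mkIdTerminal.hom_ext _ _) }⟩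
  have hc := isEquivOver_toSelf_ofPsh_of_unique T hT
  have := full_of_isEquivOver hc
  have := faithful_of_isEquivOver hc
  let W : Over S := A ⨯ V
  let p : W ⟶ A := prod.fst
  have sq : IsPullback ((AlgSp.pyon S).map p) ((AlgSp.pyon S).map (prod.snd : W ⟶ V))
      ((AlgSp.pyon S).map (Over.mkIdTerminal.from A)) ((AlgSp.pyon S).map (Over.mkIdTerminal.from V)) :=
    (IsPullback.of_is_product' (prodIsProd A V) Over.mkIdTerminal).map (AlgSp.pyon S)
  let e := BasedFunctor.comp
    (BasedFunctor.comp (pshFpLift sq.w) (fpPost _ _ (FibCat.toSelf (Stk.ofPsh T))))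
    (fpPre (AlgSt.toOverCat A) (AlgSt.toOverCat V) (FibCat.toSelf (FibCat.overCat A))
      (FibCat.toSelf (FibCat.overCat V)))
  have he : FibCat.IsEquivOver e :=
    isEquivOver_comp (isEquivOver_comp (isEquivOver_pshFpLift sq) (isEquivOver_fpPost _ _ _))
      (isEquivOver_fpPre (isEquivOver_toOverCat A) (isEquivOver_toOverCat V) _ _)
  have sq' : IsPullback p.left (prod.snd : W ⟶ V).left A.hom V.hom := by
    have := (IsPullback.of_is_product' (prodIsProd A V) Over.mkIdTerminal).map (Over.forget S)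
    simpa using this
  refine (repWith_precomp_equiv he _).1 ?_
  refine repWith_of_iso (f := BasedFunctor.comp (Stk.ofPshMap ((AlgSp.yon S).map p).hom)
    (AlgSt.toOverCat A)) (Iso.refl _) ?_
  exact (repWith_postcomp_equiv _ (isEquivOver_toOverCat A)).2
    (repWith_ofPshMap_of_stable (stableBaseChange_repWith _)
      (F := ⟨(AlgSp.yon S).obj W, AlgSp.IsAlgSpace.yon_obj W⟩)
      (G := ⟨(AlgSp.yon S).obj A, AlgSp.IsAlgSpace.yon_obj A⟩) _
      ((AlgSp.repWith_yon_map_iff quasiAffineHom p).2 (MorphismProperty.of_isPullback sq'.flip h)))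

theorem repWith_toSelf_overCat (V : Over S) (h : quasiAffineHom V.hom) :
    AlgSt.RepByAlgSpWith (AlgSp.RepWith quasiAffineHom)
      (FibCat.toSelf (FibCat.overCat V : AlgSt.Cat S)) := by
  intro A y
  let g := FibCat.fpFst (FibCat.toSelf (FibCat.overCat A)) (FibCat.toSelf (FibCat.overCat V))
  have h₁ : RepFst (AlgSp.RepWith quasiAffineHom) g :=
    RepFst.of_equiv (isEquivOver_fpSnd_id g) (FibCat.fpIso (BasedFunctor.id _) g).symm
      (repWith_fpFst_prod A V h A (BasedFunctor.id _))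
  exact RepFst.of_equiv
    (isEquivOver_fpCongr (selfIso (FibCat.toSelf (FibCat.overCat A)) y) (Iso.refl _)) (Iso.refl _) h₁

/-- An affine scheme over an affine base maps quasi-affinely to a stack with quasi-affine diagonal. -/
theorem repWith_qa_of_diag [IsAffine S] (hX : FibCat.IsFibGrpd 𝒳.p)
    (hd : AlgSt.RepByAlgSpWith (AlgSp.RepWith quasiAffineHom) (FibCat.diag (FibCat.toSelf 𝒳)))
    {V : Over S} [IsAffine V.left] (g : FibCat.overCat V ⥤ᵇ 𝒳) :
    AlgSt.RepByAlgSpWith (AlgSp.RepWith quasiAffineHom) g := by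
  let e : BasedFunctor.comp (BasedFunctor.id _) (FibCat.toSelf (FibCat.overCat V : AlgSt.Cat S)) ≅
      BasedFunctor.comp g (FibCat.toSelf 𝒳) := selfIso _ _
  have h₁ := repWith_graph' g e hd
  have h₂ := repWith_fpSnd (FibCat.toSelf (FibCat.overCat V : AlgSt.Cat S)) (FibCat.toSelf 𝒳)
    (repWith_toSelf_overCat V (quasiAffineHom_of_isAffine V.hom))
  exact repWith_of_iso (f := BasedFunctor.comp (FibCat.fpLift (BasedFunctor.id _) g e)
    (FibCat.fpSnd _ _)) (Iso.refl _)
    (repWith_comp' (isFibGrpd_overCat V) (isFibGrpd_fp (isFibGrpd_overCat V) hX isFibGrpd_selfOver)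
      (stableBaseChange_repWith _) (stableComp_repWith _) descendsAlongAtlas_quasiAffine h₁ h₂)

section Chart

variable {U : Over S} (x : FibCat.overCat U ⥤ᵇ 𝒳)

/-- An open piece of the scheme of a chart. -/
abbrev piece (A : U.left.Opens) : Over S := Over.mk (A.ι ≫ U.hom)

/-- The inclusion of an open piece. -/
abbrev pieceIncl (A : U.left.Opens) : piece A ⟶ U := Over.homMk A.ι rfl

/-- The restriction of a chart to an open piece. -/
abbrev pieceMap (A : U.left.Opens) : FibCat.overCat (piece A) ⥤ᵇ 𝒳 :=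
  BasedFunctor.comp (AlgSt.overMap (pieceIncl A)) x

/-- The diagonal pulls back to a quasi-affine map over a product of quasi-affine pieces. -/
theorem repWith_diag_piece [IsAffine S] (h𝒳 : FibCat.IsFibGrpd 𝒳.p)
    (hd : AlgSt.RepByAlgSp1 (FibCat.diag (FibCat.toSelf 𝒳))) {A B : U.left.Opens}
    (hB : IsAffineOpen B)
    (hxB : AlgSt.RepByAlgSpWith (AlgSp.RepWith quasiAffineHom) (pieceMap x B)) :
    AlgSt.RepByAlgSpWith (AlgSp.RepWith quasiAffineHom)
      (FibCat.fpFst (fpPre (pieceMap x A) (pieceMap x B) (FibCat.toSelf 𝒳) (FibCat.toSelf 𝒳))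
        (FibCat.diag (FibCat.toSelf 𝒳))) := by
  let t := FibCat.toSelf 𝒳
  let xA := pieceMap x A
  let xB := pieceMap x B
  have hA' : FibCat.IsFibGrpd (FibCat.overCat (piece A)).p := isFibGrpd_overCat _
  have hB' : FibCat.IsFibGrpd (FibCat.overCat (piece B)).p := isFibGrpd_overCat _
  have : IsAffine (piece B).left := hB
  have : IsAffine (pullback (piece B).hom (piece B).hom) := inferInstance
  refine (repWith_precomp_equiv (isEquivOver_diagFp' xA xB t) _).1 ?_
  let T := FibCat.fpFst (BasedFunctor.comp xA t) (BasedFunctor.comp xB t)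
  have hT : AlgSt.RepByAlgSpWith (DiagWith quasiAffineHom) T := by
    let C := fpCongr (selfIso (BasedFunctor.comp xA t) (FibCat.toSelf (FibCat.overCat (piece A))))
      (selfIso (BasedFunctor.comp xB t) (FibCat.toSelf (FibCat.overCat (piece B))))
    exact repWith_of_iso (Iso.refl _) ((repWith_precomp_equiv (a := C) (isEquivOver_fpCongr _ _) _).2
      (Groth.QuotEt.repWith_diagWith_fpFst_prod (piece A) (piece B) quasiAffineHom
        (quasiAffineHom_of_isAffine (pullback.diagonal (piece B).hom))))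
  refine repWith_of_comp_cancel' (g := T) (isFibGrpd_fp hA' hB' h𝒳)
    (isFibGrpd_fp hA' hB' isFibGrpd_selfOver) (stableBaseChange_repWith _)
    (stableBaseChange_diagWith quasiAffineHom)
    (fun _ _ _ _ _ _ a b hb hab =>
      Groth.AlgSpBasic.repWith_of_comp_of_diagonal quasiAffineHom hab hb)
    ((repByAlgSp1_precomp_iff (isEquivOver_diagFp' xA xB t) _).2 (repByAlgSp1_fpFst _ _ hd)) hT ?_
  exact repWith_of_iso (Iso.refl _) (repWith_fpFst xB xA hxB)

/-- The map on the base of a functor between slices. -/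
theorem exists_overMap_iso {V : Over S} (G : FibCat.overCat V ⥤ᵇ FibCat.overCat U) :
    ∃ a : V ⟶ U, Nonempty (G ≅ AlgSt.overMap a) := by
  refine ⟨eqToHom (G.w_obj (idObj V)).symm ≫ (G.obj (idObj V)).hom,
    (nonempty_overIso_iff (isFibGrpd_overCat U) _ _).2 ⟨Over.homMk (eqToHom (G.w_obj _)) ?_,
      ⟨G.w_obj (idObj V), rfl⟩⟩⟩
  show eqToHom _ ≫ 𝟙 V ≫ eqToHom _ ≫ _ = _
  simp

/-- The zariski covering sieve of a family of opens. -/
theorem generate_opens_mem {V : Over S} {ι : Type u} (O : ι → V.left.Opens)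
    (hO : ∀ t : ↥V.left, ∃ i, t ∈ O i) :
    Sieve.generate (Presieve.ofArrows (fun i => piece (O i)) (fun i => pieceIncl (O i))) ∈
      AlgSp.J S V := by
  rw [GrothendieckTopology.mem_over_iff]
  refine GrothendieckTopology.superset_covering _ ?_
    (Precoverage.generate_mem_toGrothendieck
      (show Presieve.ofArrows (fun i => (O i).toScheme) (fun i => (O i).ι) ∈
        Scheme.fppfPrecoverage V.left from
        (Scheme.ofArrows_mem_precoverage_iff _).2 ⟨fun t => (hO t).elim fun i hi => ⟨i, ⟨t, hi⟩, rfl⟩,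
          fun i => ⟨inferInstance, inferInstance⟩⟩))
  rw [Sieve.generate_le_iff]
  rintro _ _ ⟨i⟩
  exact (Sieve.overEquiv_iff _ _).2 ⟨_, 𝟙 _, pieceIncl (O i), ⟨i⟩, Category.id_comp _⟩

/-- Quasi-affine pieces of a smooth chart give a quasi-affine diagonal. -/
theorem repWith_diag_qa_of_chart [IsAffine S] (h𝒳 : FibCat.IsFibGrpd 𝒳.p)
    (hd : AlgSt.RepByAlgSp1 (FibCat.diag (FibCat.toSelf 𝒳)))
    (hx : AlgSt.RepByAlgSpWith (AlgSp.LocP @Smooth) x)
    (hxs : AlgSt.RepByAlgSpWith AlgSp.IsSurjectiveMor x)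
    (hqa : ∀ A : U.left.Opens, IsAffineOpen A →
      AlgSt.RepByAlgSpWith (AlgSp.RepWith quasiAffineHom) (pieceMap x A)) :
    AlgSt.RepByAlgSpWith (AlgSp.RepWith quasiAffineHom) (FibCat.diag (FibCat.toSelf 𝒳)) := by
  have hU' : FibCat.IsFibGrpd (FibCat.overCat U).p := isFibGrpd_overCat U
  let t := FibCat.toSelf 𝒳
  let M := fpPre x x t t
  have hM₁ : AlgSt.RepByAlgSpWith (AlgSp.LocP @Flat) M :=
    repWith_fpPre hU' h𝒳 hU' isFibGrpd_selfOver stableBaseChange_locP stableComp_locP
      descendsAlongAtlas_locP x x t t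
      (repWith_locP_of_smooth (P := @Flat) (fun _ _ f (_ : Smooth f) => inferInstance) hx)
      (repWith_locP_of_smooth (P := @Flat) (fun _ _ f (_ : Smooth f) => inferInstance) hx)
  have hM₂ : AlgSt.RepByAlgSpWith (AlgSp.LocP @LocallyOfFinitePresentation) M :=
    repWith_fpPre hU' h𝒳 hU' isFibGrpd_selfOver stableBaseChange_locP stableComp_locP
      descendsAlongAtlas_locP x x t t
      (repWith_locP_of_smooth (P := @LocallyOfFinitePresentation)
        (fun _ _ f (_ : Smooth f) => inferInstance) hx)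
      (repWith_locP_of_smooth (P := @LocallyOfFinitePresentation)
        (fun _ _ f (_ : Smooth f) => inferInstance) hx)
  have hM₃ : AlgSt.RepByAlgSpWith AlgSp.IsSurjectiveMor M :=
    repWith_fpPre hU' h𝒳 hU' isFibGrpd_selfOver stableBaseChange_surjective stableComp_surjective
      descendsAlongAtlas_surjective x x t t hxs hxs
  refine repWith_qa_of_locally hd fun U₀ y => ?_
  obtain ⟨R, hR, hR'⟩ := exists_lift_of_fppf_surjective hM₁ hM₂ hM₃ U₀ y
  let R' : Sieve U₀ :=
    { arrows := fun V h => ∃ (A B : U.left.Opens) (_ : IsAffineOpen A) (_ : IsAffineOpen B)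
        (z : FibCat.overCat V ⥤ᵇ FibCat.fp (BasedFunctor.comp (pieceMap x A) t)
          (BasedFunctor.comp (pieceMap x B) t)),
        Nonempty (BasedFunctor.comp z (fpPre (pieceMap x A) (pieceMap x B) t t) ≅
          BasedFunctor.comp (AlgSt.overMap h) y)
      downward_closed := by
        rintro V W h ⟨A, B, hA, hB, z, ⟨α⟩⟩ k
        obtain ⟨ε⟩ := nonempty_overMap_comp_iso k h
        exact ⟨A, B, hA, hB, BasedFunctor.comp (AlgSt.overMap k) z,
          ⟨(whiskerLeftIso (AlgSt.overMap k) α).trans (whiskerRightIso ε y)⟩⟩ }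
  refine ⟨R', (AlgSp.J S).transitive hR _ fun V h hh => ?_, fun V h hh => ?_⟩
  · obtain ⟨z, ⟨α⟩⟩ := hR' h hh
    obtain ⟨a, ⟨αa⟩⟩ := exists_overMap_iso (BasedFunctor.comp z (FibCat.fpFst _ _))
    obtain ⟨b, ⟨αb⟩⟩ := exists_overMap_iso (BasedFunctor.comp z (FibCat.fpSnd _ _))
    have hcov : ∀ p : ↥V.left, ∃ (A B : U.left.Opens), IsAffineOpen A ∧ IsAffineOpen B ∧
        a.left p ∈ A ∧ b.left p ∈ B := fun p => by
      obtain ⟨_, ⟨A, hA, rfl⟩, hpA, -⟩ :=
        U.left.isBasis_affineOpens.exists_subset_of_mem_open (Set.mem_univ (a.left p)) isOpen_univ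
      obtain ⟨_, ⟨B, hB, rfl⟩, hpB, -⟩ :=
        U.left.isBasis_affineOpens.exists_subset_of_mem_open (Set.mem_univ (b.left p)) isOpen_univ
      exact ⟨A, B, hA, hB, hpA, hpB⟩
    choose A B hA hB hpA hpB using hcov
    let O : ↥V.left → V.left.Opens := fun p => a.left ⁻¹ᵁ A p ⊓ b.left ⁻¹ᵁ B p
    refine GrothendieckTopology.superset_covering _ ?_
      (generate_opens_mem O fun p => ⟨p, hpA p, hpB p⟩)
    rw [Sieve.generate_le_iff]
    rintro _ _ ⟨p⟩
    let a' : piece (O p) ⟶ piece (A p) := Over.homMk (a.left.resLE (A p) (O p) inf_le_left) (by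
      show _ ≫ (A p).ι ≫ U.hom = (O p).ι ≫ V.hom
      rw [Scheme.Hom.resLE_comp_ι_assoc, Over.w a])
    let b' : piece (O p) ⟶ piece (B p) := Over.homMk (b.left.resLE (B p) (O p) inf_le_right) (by
      show _ ≫ (B p).ι ≫ U.hom = (O p).ι ≫ V.hom
      rw [Scheme.Hom.resLE_comp_ι_assoc, Over.w b])
    have ea : a' ≫ pieceIncl (A p) = pieceIncl (O p) ≫ a :=
      Over.OverMorphism.ext (Scheme.Hom.resLE_comp_ι _ _)
    have eb : b' ≫ pieceIncl (B p) = pieceIncl (O p) ≫ b :=
      Over.OverMorphism.ext (Scheme.Hom.resLE_comp_ι _ _)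
    let j := AlgSt.overMap (pieceIncl (O p))
    refine ⟨A p, B p, hA p, hB p,
      FibCat.fpLift (AlgSt.overMap a') (AlgSt.overMap b') (selfIso _ _), ?_⟩
    obtain ⟨ε⟩ := nonempty_overMap_comp_iso (pieceIncl (O p)) h
    refine ⟨Iso.trans ?_ (((whiskerLeftIso j α).trans (whiskerRightIso ε y)))⟩
    refine fpIsoMk ?_ ?_ fun o => ?_
    · exact whiskerRightIso ((nonempty_overMap_comp_iso a' (pieceIncl (A p))).some.trans
        (((eqToIso (congrArg AlgSt.overMap ea)).trans
          (nonempty_overMap_comp_iso (pieceIncl (O p)) a).some.symm).trans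
          (whiskerLeftIso j αa.symm))) x
    · exact whiskerRightIso ((nonempty_overMap_comp_iso b' (pieceIncl (B p))).some.trans
        (((eqToIso (congrArg AlgSt.overMap eb)).trans
          (nonempty_overMap_comp_iso (pieceIncl (O p)) b).some.symm).trans
          (whiskerLeftIso j αb.symm))) x
    · exact selfOver_vert_ext (IsVert.comp (isVert_map (isVert_isoApp _ _)) (fp_isVert _))
        (IsVert.comp (fp_isVert _) (isVert_map (isVert_isoApp _ _)))
  · obtain ⟨A, B, hA, hB, z, ⟨α⟩⟩ := hh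
    have h₀ : RepFst (AlgSp.RepWith quasiAffineHom) (FibCat.fpFst z
        (FibCat.fpFst (fpPre (pieceMap x A) (pieceMap x B) t t) (FibCat.diag t))) :=
      repWith_diag_piece x h𝒳 hd hB (hqa B hB) V z
    exact RepFst.of_equiv (isEquivOver_comp
      (isEquivOver_fpPaste z (fpPre (pieceMap x A) (pieceMap x B) t t) (FibCat.diag t))
      (isEquivOver_fpCongr α (Iso.refl (FibCat.diag t)))) (Iso.refl _) h₀

end Chart

end Groth.StkQAff
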