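import Groth.Agent.AlgSp3.QAffDescent
import Groth.Agent.AlgStBasic.PropCalc
import Groth.Agent.StkGerb.Lifts
import Groth.Agent.FlatMor2.IndQuasiAffineDescent

/-!
# Quasi-affine morphisms of algebraic spaces: descent and composition
-/

set_option autoImplicit false
set_option backward.isDefEq.respectTransparency false
set_option backward.isDefEq.respectTransparency.types false

universe u

open CategoryTheory CategoryTheory.Limits AlgebraicGeometry Opposite AlgSp
open Groth.AlgSpBasic Groth.SpectralTopology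

noncomputable section

namespace Groth.StkQAff

variable {S : Scheme.{u}} {X Y : Sp S}

instance : quasiAffineHom.{u}.IsStableUnderComposition := ⟨fun {A B C} f g hf hg => by
  have h := Groth.FlatMor2.isIndQuasiAffineHom_comp
    (Groth.FlatMor2.isIndQuasiAffineHom_of_isQuasiAffineHom hf)
    (Groth.FlatMor2.isIndQuasiAffineHom_of_isQuasiAffineHom hg)
  have := hf.1
  have := hg.1
  exact ⟨inferInstance, fun V hV =>
    Groth.FlatMor2.isIndQuasiAffineHom_def.mp h V hV _ le_rfl
      ((f ≫ g).isCompact_preimage hV.isCompact)⟩⟩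

theorem quasiAffineHom_of_restrict {A B : Scheme.{u}} (f : A ⟶ B) {ι : Type*} (W : ι → B.Opens)
    (hW : TopologicalSpace.IsOpenCover W) (h : ∀ i, quasiAffineHom (f ∣_ W i)) : quasiAffineHom f := by
  have : QuasiCompact f :=
    IsZariskiLocalAtTarget.of_iSup_eq_top (P := @QuasiCompact) W hW fun i => (h i).1
  refine isQuasiAffineHom_of_forall_point f fun y => ?_
  obtain ⟨i, hi⟩ := hW.exists_mem y
  obtain ⟨_, ⟨V, hV, rfl⟩, hyV, hVW⟩ :=
    B.isBasis_affineOpens.exists_subset_of_mem_open hi (W i).2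
  refine ⟨V, hyV, ?_⟩
  have hV' : IsAffineOpen ((W i).ι ⁻¹ᵁ V) := hV.preimage_of_isOpenImmersion _ (by
    rw [Scheme.Opens.opensRange_ι]; exact hVW)
  have := (h i).2 _ hV'
  have hle : f ⁻¹ᵁ V ≤ f ⁻¹ᵁ W i := fun x hx => hVW hx
  have e : (f ∣_ W i) ⁻¹ᵁ ((W i).ι ⁻¹ᵁ V) = (f ⁻¹ᵁ W i).ι ⁻¹ᵁ (f ⁻¹ᵁ V) := by
    rw [← Scheme.Hom.comp_preimage, morphismRestrict_ι, Scheme.Hom.comp_preimage]
  rw [e] at this
  exact .of_isAffineHom (IsOpenImmersion.isoOfRangeEq (f ⁻¹ᵁ V).ι
    (((f ⁻¹ᵁ W i).ι ⁻¹ᵁ (f ⁻¹ᵁ V)).ι ≫ (f ⁻¹ᵁ W i).ι) (by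
      rw [Scheme.Hom.comp_base, TopCat.coe_comp, Set.range_comp, Scheme.Opens.range_ι,
        Scheme.Opens.range_ι]
      simp only [Scheme.Hom.coe_preimage]
      rw [Set.image_preimage_eq_inter_range, Scheme.Opens.range_ι]
      exact (Set.inter_eq_left.mpr hle).symm)).hom

instance : IsZariskiLocalAtTarget quasiAffineHom.{u} :=
  IsZariskiLocalAtTarget.mk' (fun {A B} f U h => MorphismProperty.of_isPullback
    (isPullback_morphismRestrict f U).flip h) fun {A B} f ι W hW h =>
    quasiAffineHom_of_restrict f W hW h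

/-- A quasi-affine scheme over an affine scheme is quasi-affine over it. -/
theorem quasiAffineHom_of_isAffine {A B : Scheme.{u}} (f : A ⟶ B) [IsAffine B] [A.IsQuasiAffine] :
    quasiAffineHom f := by
  have : CompactSpace A := inferInstance
  have : QuasiCompact f := quasiCompact_of_compactSpace f
  exact isQuasiAffineHom_of_forall_point f fun y =>
    ⟨⊤, trivial, Scheme.IsQuasiAffine.of_isAffineHom A.topIso.hom⟩

theorem isQuasiAffine_of_quasiAffineHom {A B : Scheme.{u}} (f : A ⟶ B) [IsAffine B]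
    (h : quasiAffineHom f) : A.IsQuasiAffine := by
  have := h.2 ⊤ (isAffineOpen_top _)
  rw [Scheme.Hom.preimage_top] at this
  exact .of_isAffineHom A.topIso.inv

theorem isQuasiAffineMor_iff_repWith {f : X ⟶ Y} :
    IsQuasiAffineMor f ↔ RepWith quasiAffineHom f := by
  refine ⟨fun h => repWith_of_local fun T g t => ?_, fun h Z hZ g => ?_⟩
  · obtain ⟨i, y, hy⟩ := T.left.affineCover.exists_eq t
    let c : Over.mk (T.left.affineCover.f i ≫ T.hom) ⟶ T := Over.homMk (T.left.affineCover.f i)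
    obtain ⟨W, w, fst, sq, hW⟩ :=
      h (Z := Over.mk (T.left.affineCover.f i ≫ T.hom))
        (inferInstanceAs (IsAffine (T.left.affineCover.X i))) ((yon S).map c ≫ g)
    have : IsAffine (Over.mk (T.left.affineCover.f i ≫ T.hom)).left :=
      inferInstanceAs (IsAffine (T.left.affineCover.X i))
    exact ⟨_, c, W, w, fst, inferInstanceAs (IsOpenImmersion (T.left.affineCover.f i)), ⟨y, hy⟩,
      sq, quasiAffineHom_of_isAffine w.left⟩
  · obtain ⟨W, i, fst, sq⟩ := h.rep g
    have : IsAffine Z.left := hZ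
    exact ⟨W, i, fst, sq, isQuasiAffine_of_quasiAffineHom i.left (h.property g fst i sq)⟩

/-- Quasi-affineness of a sheaf over a scheme can be checked on a covering sieve. -/
theorem repWith_of_sieve {G : Sp S} {T : Over S} (π : G ⟶ (yon S).obj T) {R : Sieve T}
    (hR : R ∈ J S T)
    (h : ∀ ⦃V : Over S⦄ (f : V ⟶ T), R f →
      RepWith quasiAffineHom (pullback.snd π ((yon S).map f))) :
    RepWith quasiAffineHom π := by
  refine repWith_of_local fun T₀ g t => ?_
  obtain ⟨g₀, rfl⟩ := (yon S).map_surjective g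
  obtain ⟨V, i, hiR, hfl, hs⟩ := Groth.StkGerb.exists_family_of_mem ((J S).pullback_stable g₀ hR)
  obtain ⟨s, v, hv⟩ := hs t
  have := (hfl s).1
  have := (hfl s).2
  have hop : IsOpenMap (i s).left := (i s).left.isOpenMap
  obtain ⟨_, ⟨A, hA, rfl⟩, htA, -⟩ :=
    T₀.left.isBasis_affineOpens.exists_subset_of_mem_open (Set.mem_univ t) isOpen_univ
  obtain ⟨_, ⟨B, hB, rfl⟩, hvB, hBA⟩ :=
    (V s).left.isBasis_affineOpens.exists_subset_of_mem_open
      (show v ∈ (i s).left ⁻¹ᵁ A by show (i s).left v ∈ A; rw [hv]; exact htA)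
      ((i s).left ⁻¹ᵁ A).2
  obtain ⟨r, hrle, htr⟩ := hA.exists_basicOpen_le
    (V := ⟨(i s).left '' B, hop _ B.2⟩) ⟨t, v, hvB, hv⟩ htA
  let A' : T₀.left.Opens := T₀.left.basicOpen r
  let B' : (V s).left.Opens := B ⊓ (i s).left ⁻¹ᵁ A'
  have hA' : IsAffineOpen A' := hA.basicOpen r
  have hB' : IsAffineOpen B' := by
    have : B' = (V s).left.basicOpen (((i s).left.appLE A B hBA).hom r) :=
      (Scheme.basicOpen_appLE _ B A hBA r).symm
    rw [this]
    exact hB.basicOpen _
  let c : Over.mk (A'.ι ≫ T₀.hom) ⟶ T₀ := Over.homMk A'.ι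
  let j : Over.mk (B'.ι ≫ (V s).hom) ⟶ V s := Over.homMk B'.ι
  let k : Over.mk (B'.ι ≫ (V s).hom) ⟶ Over.mk (A'.ι ≫ T₀.hom) :=
    Over.homMk ((i s).left.resLE A' B' inf_le_right) (by
      show _ ≫ A'.ι ≫ T₀.hom = B'.ι ≫ (V s).hom
      rw [Scheme.Hom.resLE_comp_ι_assoc, Over.w (i s)])
  have hkc : k ≫ c = j ≫ i s := Over.OverMorphism.ext (Scheme.Hom.resLE_comp_ι _ _)
  have : IsAffine (Over.mk (A'.ι ≫ T₀.hom)).left := hA'
  have : IsAffine (Over.mk (B'.ι ≫ (V s).hom)).left := hB'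
  have : Surjective k.left := ⟨fun y => by
    obtain ⟨w, hwB, hw⟩ := hrle y.2
    refine ⟨⟨w, hwB, show (i s).left w ∈ A' by rw [hw]; exact y.2⟩, Subtype.ext ?_⟩
    refine Eq.trans ?_ hw
    exact congr($(Scheme.Hom.resLE_comp_ι (i s).left (U := A') (V := B') inf_le_right)
      (⟨w, hwB, show (i s).left w ∈ A' by rw [hw]; exact y.2⟩ : B'.toScheme))⟩
  have : Flat k.left := inferInstanceAs (Flat ((i s).left.resLE A' B' inf_le_right))
  have : LocallyOfFinitePresentation k.left :=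
    inferInstanceAs (LocallyOfFinitePresentation ((i s).left.resLE A' B' inf_le_right))
  have : QuasiCompact k.left := quasiCompact_of_compactSpace _
  have hkR : R (k ≫ c ≫ g₀) := by
    rw [← Category.assoc, hkc, Category.assoc]
    exact R.downward_closed (hiR s) j
  obtain ⟨W, w, fst, sq⟩ := (h _ hkR).rep (𝟙 _)
  have hw : quasiAffineHom w.left := (h _ hkR).property _ fst w sq
  have big := (sq.paste_horiz (IsPullback.of_hasPullback π ((yon S).map (k ≫ c ≫ g₀))))
  rw [Category.id_comp] at big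
  obtain ⟨f₀, big⟩ : ∃ f₀, IsPullback f₀ ((yon S).map w) π
      ((yon S).map k ≫ (yon S).map c ≫ (yon S).map g₀) :=
    ⟨_, by rw [← Functor.map_comp, ← Functor.map_comp]; exact big⟩
  obtain ⟨P, p₁, p₂, sqP⟩ : ∃ (P : Sp S) (p₁ : P ⟶ G) (p₂ : P ⟶ (yon S).obj (Over.mk (A'.ι ≫ T₀.hom))),
      IsPullback p₁ p₂ π ((yon S).map c ≫ (yon S).map g₀) := ⟨_, _, _, IsPullback.of_hasPullback _ _⟩
  let l := sqP.lift f₀ ((yon S).map w ≫ (yon S).map k) (big.w.trans (Category.assoc _ _ _).symm)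
  have hl : IsPullback l ((yon S).map w) p₂ ((yon S).map k) :=
    IsPullback.of_right (by rw [sqP.lift_fst]; exact big) (sqP.lift_snd _ _ _) sqP
  obtain ⟨U, p, e, he⟩ := exists_iso_of_isQuasiAffineHom hl hw
  refine ⟨_, c, U, p, e.hom ≫ p₁, inferInstanceAs (IsOpenImmersion A'.ι), ⟨⟨t, htr⟩, rfl⟩, ?_, ?_⟩
  · exact sqP.of_iso e.symm (Iso.refl _) (Iso.refl _) (Iso.refl _) (by simp) (by simp [← he])
      (by simp) (by simp)
  · obtain ⟨l', hl'⟩ := (yon S).map_surjective (l ≫ e.inv)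
    have h2 : IsPullback ((yon S).map l') ((yon S).map w) ((yon S).map p) ((yon S).map k) := by
      rw [hl']
      exact hl.of_iso (Iso.refl _) e.symm (Iso.refl _) (Iso.refl _) (by simp) (by simp)
        (by simp [← he]) (by simp)
    exact MorphismProperty.of_isPullback_of_descendsAlong
      (P := quasiAffineHom) (Q := Groth.EtaleBase.Fpqc)
      (isPullback_left (isPullback_of_yon h2)).flip
      ⟨⟨inferInstance, inferInstance⟩, inferInstance⟩ hw

theorem descendsAlongAtlas_quasiAffine :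
    AlgStBasic.DescendsAlongAtlas (RepWith (S := S) quasiAffineHom) := by
  intro X Y π W q Q fst snd hX hY he hs hQ sq hp
  refine repWith_of_exists fun T g => ?_
  obtain ⟨M, m', m, hM⟩ := he.rep g
  have : Etale m'.left := he.property g m m' hM
  have : Surjective m'.left := hs.property g m m' hM
  have hπ : RepWith quasiAffineHom (pullback.snd π g) := by
    refine repWith_of_sieve _ (generate_singleton_mem m') ?_
    rintro V f ⟨_, k, _, ⟨⟩, rfl⟩
    obtain ⟨a, ha⟩ : ∃ a : (yon S).obj V ⟶ (yon S).obj W,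
        a ≫ q = (yon S).map (k ≫ m') ≫ g :=
      ⟨(yon S).map k ≫ m, by rw [Category.assoc, hM.w, Functor.map_comp, Category.assoc]⟩
    have big := (IsPullback.of_hasPullback (pullback.snd π g) ((yon S).map (k ≫ m'))).paste_horiz
      (IsPullback.of_hasPullback π g)
    rw [← ha] at big
    exact repWith_of_isPullback
      (IsPullback.of_right' big sq) hp
  obtain ⟨Z, i, z, sqZ⟩ := hπ.rep (𝟙 _)
  refine ⟨Z, z ≫ pullback.fst π g, i, ?_, hπ.property _ z i sqZ⟩
  have := sqZ.paste_horiz (IsPullback.of_hasPullback π g)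
  rwa [Category.id_comp] at this

end Groth.StkQAff
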